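import Groth.Agent.AdmBlowUp.FTIdeal

/-!
# Extending finitely generated ideals on an affine open to ideal sheaves of finite type
-/

universe u

open CategoryTheory Limits AlgebraicGeometry TopologicalSpace Opposite

namespace Groth.FlatDescent.Strat

open Groth.Agent.SubSheafExt Groth.Agent.AdmBlowUp

variable {X : Scheme.{u}} {U : X.Opens} (hU : IsAffineOpen U)

/-- The closure of a closed subscheme of an affine open restricts to it. -/
theorem ker_ideal_self [QuasiSeparatedSpace X] (J : Ideal Γ(X, U)) :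
    (Spec.map (CommRingCat.ofHom (Ideal.Quotient.mk J)) ≫ hU.fromSpec).ker.ideal ⟨U, hU⟩ = J := by
  haveI : IsClosedImmersion (Spec.map (CommRingCat.ofHom (Ideal.Quotient.mk J))) :=
    IsClosedImmersion.spec_of_surjective _ Ideal.Quotient.mk_surjective
  haveI : QuasiCompact hU.fromSpec := QuasiCompact.of_comp hU.fromSpec (terminal.from X)
  haveI : QuasiCompact (Spec.map (CommRingCat.ofHom (Ideal.Quotient.mk J)) ≫ hU.fromSpec) := inferInstance
  let q := CommRingCat.ofHom (Ideal.Quotient.mk J)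
  rw [Scheme.Hom.ker_apply]
  have h : (Spec.map q ≫ hU.fromSpec).app U = q ≫ (Scheme.ΓSpecIso _).inv ≫
      (Spec (CommRingCat.of (Γ(X, U) ⧸ J))).presheaf.map
        (eqToHom (by rw [Scheme.Hom.comp_preimage, hU.fromSpec_preimage_self, Scheme.Hom.preimage_top])).op := by
    rw [Scheme.Hom.comp_app, hU.fromSpec_app_self, Category.assoc, Scheme.Hom.naturality,
      Scheme.ΓSpecIso_inv_naturality_assoc]
    rfl
  ext a
  rw [RingHom.mem_ker, h, CommRingCat.comp_apply, map_eq_zero_iff _ (ConcreteCategory.bijective_of_isIso _).1]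
  exact Ideal.Quotient.eq_zero_iff_mem

/-- A finitely generated ideal on an affine open extends to an ideal sheaf of finite type. -/
theorem exists_ft_extension [CompactSpace X] [QuasiSeparatedSpace X] (J : Ideal Γ(X, U)) (hJ : J.FG) :
    ∃ E : X.IdealSheafData, BlowUp.IsFiniteTypeIdeal E ∧ E.ideal ⟨U, hU⟩ = J := by
  classical
  let K := (Spec.map (CommRingCat.ofHom (Ideal.Quotient.mk J)) ≫ hU.fromSpec).ker
  have hK : K.ideal ⟨U, hU⟩ = J := ker_ideal_self hU J
  haveI := Groth.Agent.ConormalSection.isQuasicoherent_idealMod K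
  obtain ⟨s, hs⟩ := hJ
  choose σ hσ using fun a : s => Groth.Agent.ConormalSection.exists_idealSect_eq K ⟨U, hU⟩ a
    (by rw [hK, ← hs]; exact Ideal.subset_span a.2)
  choose M hM hsM using fun a => exists_gen_of_section_qcqs (F := ClSub.idealMod K) hU (σ a)
  have hS : GenOn (fun y => Finset.univ.sup fun a => M a y) ⊤ := genOn_finset_sup Finset.univ M fun a _ => hM a
  refine ⟨subIdeal K hS, subIdeal_ft K hS, le_antisymm ?_ ?_⟩
  · exact (subIdeal_le K hS _).trans hK.le
  · rw [← hs]
    refine Ideal.span_le.mpr fun a ha => ⟨σ ⟨a, ha⟩, fun y hy => ?_, hσ ⟨a, ha⟩⟩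
    exact (Finset.le_sup (f := fun a => M a y) (Finset.mem_univ (⟨a, ha⟩ : s))) (hsM ⟨a, ha⟩ y hy)

end Groth.FlatDescent.Strat
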