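import Mathlib
import Groth.Agent.GenFree.Package
import Groth.Agent.FlatDescent.Presentation
import Groth.Agent.FlatDescent.Colimit

/-!
# Flattening stratifications, affine form

`exists_chain`: for finitely many finitely presented modules over finitely presented algebras over any ring there is a
chain of finitely generated ideals with flat strata, from a nil ideal up to the unit ideal.
-/

universe u

open TensorProduct MvPolynomial

namespace Groth.FlatDescent.Strat

variable {A : Type u} [CommRing A]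

/-- One step of a stratification. -/
def Step {ι : Type} (M : ι → Type u) [∀ i, AddCommGroup (M i)] [∀ i, Module A (M i)] (I J : Ideal A) : Prop :=
  I ≤ J ∧ J.FG ∧ ∀ (A' : Type u) [CommRing A'] [Algebra A A'],
    I.map (algebraMap A A') = ⊥ → J.map (algebraMap A A') = ⊤ → ∀ i, Module.Flat A' (A' ⊗[A] M i)

/-- A radical ideal other than the unit ideal has a prime ideal of the form `(I : x)`, `x` outside it. -/
theorem exists_colon_prime [IsNoetherianRing A] (I : Ideal A) (hI : I.IsRadical) (hne : I ≠ ⊤) :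
    ∃ x : A, x ∉ I ∧ ∃ P : Ideal A, P.IsPrime ∧ x ∉ P ∧ I ≤ P ∧ ∀ r, r ∈ P ↔ r * x ∈ I := by
  let c : A → Ideal A := fun x => Submodule.comap (LinearMap.mulRight A x) I
  have hc : ∀ x r, r ∈ c x ↔ r * x ∈ I := fun _ _ => Iff.rfl
  obtain ⟨_, ⟨x, hx, rfl⟩, hmax⟩ := set_has_maximal_iff_noetherian.mpr ‹IsNoetherianRing A› (c '' {x | x ∉ I})
    ⟨_, 1, fun h => hne ((Ideal.eq_top_iff_one _).mpr h), rfl⟩
  refine ⟨x, hx, c x, ?_, fun h => hx (hI ⟨2, by rw [pow_two]; exact h⟩), fun r hr => Ideal.mul_mem_right _ _ hr, hc x⟩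
  refine ⟨fun h => hx (by have := (hc x 1).mp (h ▸ Submodule.mem_top); rwa [one_mul] at this), fun {a b} hab => ?_⟩
  by_cases ha : a ∈ c x
  · exact Or.inl ha
  refine Or.inr ?_
  have hle : c x ≤ c (a * x) := fun r hr => by
    rw [hc, ← mul_assoc, mul_comm r a, mul_assoc]
    exact Ideal.mul_mem_left _ a hr
  rw [eq_of_le_of_not_lt hle (hmax (c (a * x)) ⟨a * x, ha, rfl⟩), hc, ← mul_assoc, mul_comm b a]
  exact hab

/-- **Flattening stratification** over a Noetherian ring, given generic freeness modulo the primes. -/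
theorem exists_chain_noetherian [IsNoetherianRing A] {ι : Type} [Finite ι] (M : ι → Type u) [∀ i, AddCommGroup (M i)]
    [∀ i, Module A (M i)]
    (hgen : ∀ P : Ideal A, P.IsPrime → ∀ i, ∃ a ∉ P, GenFree.FreeAt (Ideal.Quotient.mk P a) ((A ⧸ P) ⊗[A] M i))
    (I : Ideal A) (hI : I.IsRadical) : Relation.ReflTransGen (Step M) I ⊤ := by
  classical
  haveI := Fintype.ofFinite ι
  induction I using WellFoundedGT.induction with
  | ind I ih =>
  by_cases hne : I = ⊤
  · subst hne; exact Relation.ReflTransGen.refl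
  obtain ⟨x, hxI, P, hP, hxP, hIP, hPx⟩ := exists_colon_prime I hI hne
  choose a ha hfree using hgen P hP
  let h₀ := ∏ i, a i
  have hh₀ : h₀ ∉ P := fun h => by
    haveI := hP
    obtain ⟨i, -, hi⟩ := (Ideal.IsPrime.prod_mem_iff (p := P)).mp h
    exact ha i hi
  let J := (I ⊔ Ideal.span {x * h₀}).radical
  have hIJ : I < J := by
    refine lt_of_le_not_ge (le_sup_left.trans Ideal.le_radical) fun hle => hh₀ ?_
    rw [hPx, mul_comm]
    exact hle (Ideal.le_radical (Ideal.mem_sup_right (Ideal.mem_span_singleton_self _)))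
  refine Relation.ReflTransGen.head ⟨hIJ.le, IsNoetherian.noetherian J, fun A' _ _ hI0 hJ1 i => ?_⟩
    (ih J hIJ (Ideal.radical_isRadical _))
  let φ := algebraMap A A'
  have hI0' : ∀ r ∈ I, φ r = 0 := fun r hr => by
    have := Ideal.mem_map_of_mem φ hr
    rwa [hI0, Ideal.mem_bot] at this
  have hu : IsUnit (φ (x * h₀)) := by
    have h1 : ((I ⊔ Ideal.span {x * h₀}).map φ).radical = ⊤ :=
      top_le_iff.mp (hJ1.ge.trans (Ideal.map_radical_le φ))
    rw [Ideal.radical_eq_top, Ideal.map_sup, hI0, bot_sup_eq, Ideal.map_span, Set.image_singleton,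
      Ideal.span_singleton_eq_top] at h1
    exact h1
  rw [map_mul] at hu
  have hP0 : ∀ r ∈ P, φ r = 0 := fun r hr => by
    have := hI0' _ ((hPx r).mp hr)
    rw [map_mul] at this
    exact (isUnit_of_mul_isUnit_left hu).mul_left_eq_zero.mp this
  let ψ : A ⧸ P →+* A' := Ideal.Quotient.lift P φ hP0
  letI : Algebra (A ⧸ P) A' := ψ.toAlgebra
  haveI : IsScalarTower A (A ⧸ P) A' := IsScalarTower.of_algebraMap_eq fun _ => rfl
  let b := Ideal.Quotient.mk P h₀
  have hub : IsUnit (ψ b) := isUnit_of_mul_isUnit_right hu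
  let Dh := Localization.Away b
  letI : Algebra Dh A' := (IsLocalization.Away.lift (g := ψ) b hub).toAlgebra
  haveI : IsScalarTower (A ⧸ P) Dh A' :=
    IsScalarTower.of_algebraMap_eq fun d => (IsLocalization.Away.lift_eq _ hub d).symm
  haveI : Module.Free Dh (Dh ⊗[A ⧸ P] ((A ⧸ P) ⊗[A] M i)) :=
    GenFree.free_tensor (map_dvd _ (Finset.dvd_prod_of_mem a (Finset.mem_univ i))) (hfree i)
  haveI : Module.Free A' (A' ⊗[Dh] (Dh ⊗[A ⧸ P] ((A ⧸ P) ⊗[A] M i))) := inferInstance
  haveI : Module.Free A' (A' ⊗[A] M i) := Module.Free.of_equiv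
    ((TensorProduct.AlgebraTensorModule.cancelBaseChange (A ⧸ P) Dh A' A' ((A ⧸ P) ⊗[A] M i)) ≪≫ₗ
      (TensorProduct.AlgebraTensorModule.cancelBaseChange A (A ⧸ P) A' A' (M i)))
  infer_instance

/-- Stratifications extend along a change of rings. -/
theorem chain_map {A₀ : Type u} [CommRing A₀] [Algebra A₀ A] {ι : Type} (M₀ : ι → Type u) [∀ i, AddCommGroup (M₀ i)]
    [∀ i, Module A₀ (M₀ i)] (M : ι → Type u) [∀ i, AddCommGroup (M i)] [∀ i, Module A (M i)]
    (e : ∀ i, M i ≃ₗ[A] A ⊗[A₀] M₀ i) {I J : Ideal A₀} (h : Relation.ReflTransGen (Step M₀) I J) :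
    Relation.ReflTransGen (Step M) (I.map (algebraMap A₀ A)) (J.map (algebraMap A₀ A)) := by
  refine Relation.ReflTransGen.lift (fun I => I.map (algebraMap A₀ A)) (fun I J hIJ => ?_) _ _ h
  refine ⟨Ideal.map_mono hIJ.1, hIJ.2.1.map _, fun A' _ _ hI0 hJ1 i => ?_⟩
  letI : Algebra A₀ A' := ((algebraMap A A').comp (algebraMap A₀ A)).toAlgebra
  haveI : IsScalarTower A₀ A A' := IsScalarTower.of_algebraMap_eq fun _ => rfl
  haveI := hIJ.2.2 A' (by rwa [Ideal.map_map] at hI0) (by rwa [Ideal.map_map] at hJ1) i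
  exact Module.Flat.of_linearEquiv ((TensorProduct.AlgebraTensorModule.congr (LinearEquiv.refl A' A') (e i)) ≪≫ₗ
    TensorProduct.AlgebraTensorModule.cancelBaseChange A₀ A A' A' (M₀ i))

/-- **Flattening stratification**, affine form. -/
theorem exists_chain {ι : Type} [Finite ι] (B : ι → Type u) [∀ i, CommRing (B i)] [∀ i, Algebra A (B i)]
    [∀ i, Algebra.FinitePresentation A (B i)] (M : ι → Type u) [∀ i, AddCommGroup (M i)] [∀ i, Module (B i) (M i)]
    [∀ i, Module A (M i)] [∀ i, IsScalarTower A (B i) (M i)] [∀ i, Module.FinitePresentation (B i) (M i)] :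
    ∃ J₀ : Ideal A, J₀.FG ∧ J₀ ≤ nilradical A ∧ Relation.ReflTransGen (Step M) J₀ ⊤ := by
  classical
  haveI := Fintype.ofFinite ι
  choose n k π hπ N hN f hf hsmul hker using fun i => exists_presentation A (B i) (M i)
  choose A₁ hA₁ N₁ hbase _ using fun i => exists_finite_type_model (hN i)
  let A₀ : Subalgebra ℤ A := Finset.univ.sup A₁
  have hA₀ : A₀.FG := Finset.sup_induction Subalgebra.fg_bot (fun a ha b hb => ha.sup hb) fun i _ => hA₁ i
  have hle : ∀ i, A₁ i ≤ A₀ := fun i => Finset.le_sup (Finset.mem_univ i)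
  let M₀ : ι → Type u := fun i =>
    (Fin (k i) → MvPolynomial (Fin (n i)) A₀) ⧸ baseN (Subalgebra.inclusion (hle i)).toRingHom (N₁ i)
  have e : ∀ i, M i ≃ₗ[A] A ⊗[A₀] M₀ i := by
    intro i
    let fA : (Fin (k i) → MvPolynomial (Fin (n i)) A) →ₗ[A] M i :=
      { f i with
        map_smul' := fun a x => by
          show f i (a • x) = a • f i x
          rw [← algebraMap_smul (MvPolynomial (Fin (n i)) A) a x, hsmul, AlgHom.commutes, algebraMap_smul] }
    have hfker : LinearMap.ker fA = (N i).restrictScalars A := by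
      ext x
      exact hker i x
    let eM : ((Fin (k i) → MvPolynomial (Fin (n i)) A) ⧸ N i) ≃ₗ[A] M i :=
      (Submodule.Quotient.restrictScalarsEquiv A (N i)).symm ≪≫ₗ Submodule.quotEquivOfEq _ _ hfker.symm ≪≫ₗ
        fA.quotKerEquivOfSurjective (hf i)
    have hb : baseN (algebraMap A₀ A) (baseN (Subalgebra.inclusion (hle i)).toRingHom (N₁ i)) = N i := by
      rw [baseN_baseN]
      exact hbase i
    exact eM.symm ≪≫ₗ (Submodule.quotEquivOfEq _ _ hb.symm).restrictScalars A ≪≫ₗ (baseNEquiv _).some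
  haveI : Algebra.FiniteType ℤ A₀ := ⟨A₀.fg_top.mpr hA₀⟩
  haveI : IsNoetherianRing A₀ := Algebra.FiniteType.isNoetherianRing ℤ A₀
  have hgen : ∀ P : Ideal A₀, P.IsPrime → ∀ i, ∃ a ∉ P,
      GenFree.FreeAt (Ideal.Quotient.mk P a) ((A₀ ⧸ P) ⊗[A₀] M₀ i) := by
    intro P hP i
    haveI := hP
    let D := A₀ ⧸ P
    obtain ⟨e⟩ := baseNEquiv (R := D) (baseN (Subalgebra.inclusion (hle i)).toRingHom (N₁ i))
    obtain ⟨d, hd0, hfree⟩ := GenFree.exists_freeAt D (B := MvPolynomial (Fin (n i)) D)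
      ((Fin (k i) → MvPolynomial (Fin (n i)) D) ⧸
        baseN (algebraMap A₀ D) (baseN (Subalgebra.inclusion (hle i)).toRingHom (N₁ i)))
    obtain ⟨a, rfl⟩ := Ideal.Quotient.mk_surjective d
    exact ⟨a, fun hc => hd0 (Ideal.Quotient.eq_zero_iff_mem.mpr hc), hfree.of_linearEquiv e⟩
  have h := chain_map M₀ M e (exists_chain_noetherian M₀ hgen (nilradical A₀) (Ideal.radical_isRadical _))
  rw [Ideal.map_top] at h
  refine ⟨_, Ideal.FG.map (IsNoetherian.noetherian _) _, Ideal.map_le_iff_le_comap.mpr fun a ha => ?_, h⟩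
  rw [Ideal.mem_comap, mem_nilradical]
  exact (mem_nilradical.mp ha).map _

end Groth.FlatDescent.Strat
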