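import Groth.Agent.FlatDescent.SheafBC.Main
import Groth.Agent.QCohLib.FiniteType

/-!
# Flatness of a base change from affine charts
-/

universe u

open AlgebraicGeometry CategoryTheory CategoryTheory.Limits TensorProduct TopologicalSpace Groth.Agent.QCohLib

namespace Groth.FlatDescent.Strat

open SheafBC

/-- Flatness of a base change at a point, from flatness of the base change of the sections on a chart. -/
theorem isFlatOverAt_of_flat_chart {X S S' X' : Scheme.{u}} (f : X ⟶ S) (f' : X' ⟶ S') (g' : X' ⟶ X) (g : S' ⟶ S)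
    (hc : IsPullback g' f' f g) (F : X.Modules) [F.IsQuasicoherent] (x' : X') {V : S.Opens} (hV : IsAffineOpen V)
    {U : X.Opens} (hU : IsAffineOpen U) (eU : U ≤ f ⁻¹ᵁ V) (hxU : g' x' ∈ U) {W : S'.Opens} (hW : IsAffineOpen W)
    (eW : W ≤ g ⁻¹ᵁ V) (hxW : f' x' ∈ W)
    (hflat :
      letI := (g.appLE V W eW).hom.toAlgebra
      letI : Module Γ(S, V) (ΓR (onSpec F hU)) := Module.compHom _ (f.appLE V U eU).hom
      Module.Flat Γ(S', W) (Γ(S', W) ⊗[Γ(S, V)] ΓR (onSpec F hU))) :
    FlatMod.IsFlatOverAt f' ((Scheme.Modules.pullback g').obj F) x' := by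
  let O : X'.Opens := g' ⁻¹ᵁ U ⊓ f' ⁻¹ᵁ W
  have hxO : x' ∈ O := ⟨hxU, hxW⟩
  have hO : IsAffineOpen O := by
    haveI : IsAffine V.toScheme := hV
    haveI : IsAffine W := hW
    haveI : IsAffine U.toScheme := hU
    exact .of_isIso (Scheme.Hom.isPullback_resLE hc eW eU (rfl : O = _)).isoPullback.hom
  have eg' : O ≤ g' ⁻¹ᵁ U := inf_le_left
  have ef' : O ≤ f' ⁻¹ᵁ W := inf_le_right
  let A := Γ(S, V)
  let A' := Γ(S', W)
  let B := Γ(X, U)
  let B' := Γ(X', O)
  letI : Algebra A B := (f.appLE V U eU).hom.toAlgebra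
  letI : Algebra A A' := (g.appLE V W eW).hom.toAlgebra
  letI : Algebra B B' := (g'.appLE U O eg').hom.toAlgebra
  letI : Algebra A' B' := (f'.appLE W O ef').hom.toAlgebra
  letI : Algebra A B' := ((algebraMap A' B').comp (algebraMap A A')).toAlgebra
  haveI : IsScalarTower A A' B' := IsScalarTower.of_algebraMap_eq fun _ => rfl
  haveI : IsScalarTower A B B' := IsScalarTower.of_algebraMap_eq fun a => by
    change f'.appLE W O ef' (g.appLE V W eW a) = g'.appLE U O eg' (f.appLE V U eU a)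
    rw [← CommRingCat.comp_apply, ← CommRingCat.comp_apply, Scheme.Hom.appLE_comp_appLE, Scheme.Hom.appLE_comp_appLE]
    simp only [hc.w]
  have hpush := (isIso_pushoutSection_iff hc eW eU (rfl : O = _)).mp
    (isIso_pushoutSection_of_isAffineOpen hc eW eU (rfl : O = _) hV hW hU)
  haveI : Algebra.IsPushout A A' B B' := CommRingCat.isPushout_iff_isPushout.mp hpush.flip
  let M : ModuleCat.{u} (CommRingCat.of B) := ΓR (onSpec F hU)
  letI : Module A M := Module.compHom M (algebraMap A B)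
  haveI : IsScalarTower A B M := IsScalarTower.of_algebraMap_smul fun _ _ => rfl
  haveI : Module.Flat A' (A' ⊗[A] M) := hflat
  haveI : Module.Flat A' (B' ⊗[B] M) :=
    Module.Flat.of_linearEquiv ((Algebra.IsPushout.cancelBaseChange A A' B B' M) : B' ⊗[B] M ≃ₗ[A'] A' ⊗[A] M)
  let w := hO.primeIdealOf ⟨x', hxO⟩
  have hw : hO.fromSpec w = x' := hO.fromSpec_primeIdealOf ⟨x', hxO⟩
  haveI : SMulCommClass B A' B' := ⟨fun b a c => by simp only [Algebra.smul_def]; ring⟩
  have h2 := isFlatOverAt_pullback_chart g' f' F hW.fromSpec hU.fromSpec hO.fromSpec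
    (IsAffineOpen.SpecMap_appLE_fromSpec (f := g') hU hO eg').symm
    (IsAffineOpen.SpecMap_appLE_fromSpec (f := f') hW hO ef').symm M (counitIso (onSpec F hU)) w
  rw [hw] at h2
  refine h2.mpr ?_
  exact Groth.Agent.QCohLib.flat_of_isLocalizedModule_tower (R := A') (M := B' ⊗[B] M) (M' := LocalizedModule w.asIdeal.primeCompl (B' ⊗[B] M)) w.asIdeal.primeCompl
    (LocalizedModule.mkLinearMap w.asIdeal.primeCompl (B' ⊗[B] M))

end Groth.FlatDescent.Strat
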