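import Groth.Agent.FlatDescent.Strat.Algebra
import Groth.Agent.FlatDescent.Strat.Ext
import Groth.Agent.FlatDescent.Strat.Flat
import Groth.Agent.IdealComap.Basic
import Groth.Agent.QCohLib.FiniteType
import Groth.Agent.QCohLib.Criterion
import Groth.Prelude.Def_CohB1

/-!
# Flattening stratifications of quasi-compact quasi-separated schemes
-/

universe u

open AlgebraicGeometry CategoryTheory CategoryTheory.Limits TensorProduct TopologicalSpace Groth.Agent.QCohLib

namespace Groth.FlatDescent.Strat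

variable {X S : Scheme.{u}}

/-- The inclusion of the stratum `V(P) ∖ V(Q)`. -/
noncomputable abbrev stratumι (P Q : S.IdealSheafData) :
    ((P.subschemeι ⁻¹ᵁ Q.support.compl : P.subscheme.Opens) : Scheme.{u}) ⟶ S :=
  (P.subschemeι ⁻¹ᵁ Q.support.compl).ι ≫ P.subschemeι

/-- One step of a stratification of `S` flattening `F`. -/
def SStep (f : X ⟶ S) (F : X.Modules) (P Q : S.IdealSheafData) : Prop :=
  P ≤ Q ∧ BlowUp.IsFiniteTypeIdeal Q ∧
    FlatMod.IsFlatOver (pullback.snd f (stratumι P Q)) ((Scheme.Modules.pullback (pullback.fst f (stratumι P Q))).obj F)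

theorem mem_support_stratum (P Q : S.IdealSheafData)
    (t : ((P.subschemeι ⁻¹ᵁ Q.support.compl : P.subscheme.Opens) : Scheme.{u})) :
    stratumι P Q t ∈ (P.support : Set S) ∧ stratumι P Q t ∉ (Q.support : Set S) :=
  ⟨P.range_subschemeι.le ⟨_, rfl⟩, t.2⟩

/-- An empty stratum is flat. -/
theorem sstep_of_empty (f : X ⟶ S) (F : X.Modules) {P Q : S.IdealSheafData} (hle : P ≤ Q)
    (hQ : BlowUp.IsFiniteTypeIdeal Q) (h : ∀ s ∈ (P.support : Set S), s ∈ (Q.support : Set S)) : SStep f F P Q :=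
  ⟨hle, hQ, fun x' => absurd (h _ (mem_support_stratum P Q _).1) (mem_support_stratum P Q (pullback.snd f _ x')).2⟩

/-- A step from flatness over the sections of an affine open containing the stratum. -/
theorem sstep_of_chart (f : X ⟶ S) (F : X.Modules) [F.IsQuasicoherent] {U : S.Opens} (hU : IsAffineOpen U)
    {ι : Type} (W : ι → X.Opens) (hW : ∀ i, IsAffineOpen (W i)) (eW : ∀ i, W i ≤ f ⁻¹ᵁ U)
    (hcov : f ⁻¹ᵁ U ≤ ⨆ i, W i) {P Q : S.IdealSheafData} (hle : P ≤ Q) (hQ : BlowUp.IsFiniteTypeIdeal Q)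
    (hsupp : ∀ s ∈ (P.support : Set S), s ∉ (Q.support : Set S) → s ∈ U)
    (hflat : ∀ (A' : Type u) [CommRing A'] [Algebra Γ(S, U) A'],
      (P.ideal ⟨U, hU⟩).map (algebraMap Γ(S, U) A') = ⊥ → (Q.ideal ⟨U, hU⟩).map (algebraMap Γ(S, U) A') = ⊤ →
      ∀ i,
        letI : Module Γ(S, U) (ΓR (onSpec F (hW i))) := Module.compHom _ (f.appLE U (W i) (eW i)).hom
        Module.Flat A' (A' ⊗[Γ(S, U)] ΓR (onSpec F (hW i)))) :
    SStep f F P Q := by
  refine ⟨hle, hQ, fun x' => ?_⟩
  let T := (P.subschemeι ⁻¹ᵁ Q.support.compl : P.subscheme.Opens)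
  let j := stratumι P Q
  let t := pullback.snd f j x'
  have ht : j t ∈ U := hsupp _ (mem_support_stratum P Q t).1 (mem_support_stratum P Q t).2
  obtain ⟨V, hV, htV, eV⟩ := SheafBC.exists_mem_affine_le (j ⁻¹ᵁ U) (z := t) ht
  have hx : f (pullback.fst f j x') ∈ U := by
    rw [← Scheme.Hom.comp_apply, pullback.condition, Scheme.Hom.comp_apply]
    exact ht
  obtain ⟨i, hi⟩ := Opens.mem_iSup.mp (hcov hx)
  refine isFlatOverAt_of_flat_chart f _ _ j (IsPullback.of_hasPullback f j) F x' hU (hW i) (eW i) hi hV eV htV ?_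
  letI := (j.appLE U V eV).hom.toAlgebra
  refine hflat Γ((T : Scheme.{u}), V) ?_ ?_ i
  · rw [eq_bot_iff, Ideal.map_le_iff_le_comap]
    intro a ha
    have h0 : P.subschemeι.app U a = 0 := by
      rwa [← RingHom.mem_ker, Scheme.IdealSheafData.ker_subschemeι_app P ⟨U, hU⟩]
    have h1 : j.app U a = 0 := (congrArg (T.ι.app _).hom h0).trans (map_zero _)
    show (T : Scheme.{u}).presheaf.map (homOfLE eV).op (j.app U a) = 0
    rw [h1, map_zero]
  · show (Q.ideal ⟨U, hU⟩).map (j.appLE U V eV).hom = ⊤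
    rw [← Groth.Agent.IdealComap.ideal_comap Q j ⟨V, hV⟩ ⟨U, hU⟩ eV]
    refine Groth.Agent.AdmBlowUp.ideal_eq_top_of_disjoint _ ⟨V, hV⟩ (Set.disjoint_left.mpr fun v _ hv => ?_)
    rw [Scheme.IdealSheafData.support_comap] at hv
    exact (mem_support_stratum P Q v).2 hv

/-- Stratifying over one affine open, relative to a closed subscheme. -/
theorem exists_chain_affine [CompactSpace S] [QuasiSeparatedSpace S] (f : X ⟶ S) [LocallyOfFinitePresentation f]
    [QuasiCompact f] (F : X.Modules) [F.IsQuasicoherent] (hF : CohB1.IsFP F) {U : S.Opens} (hU : IsAffineOpen U)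
    (P K : S.IdealSheafData) (hP : BlowUp.IsFiniteTypeIdeal P) (hK : BlowUp.IsFiniteTypeIdeal K)
    (hKU : (K.support : Set S) = (U : Set S)ᶜ) : Relation.ReflTransGen (SStep f F) P (P ⊔ K) := by
  classical
  obtain ⟨κ, hκ, W₀, hW₀, hle₀, hsup₀⟩ := exists_finite_affine_cover (U := f ⁻¹ᵁ U)
    (QuasiCompact.isCompact_preimage (f := f) (U : Set S) U.2 hU.isCompact)
  let e := (Fintype.equivFin κ).symm
  let W : Fin (Fintype.card κ) → X.Opens := fun i => W₀ (e i)
  have hW : ∀ i, IsAffineOpen (W i) := fun i => hW₀ _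
  have eW : ∀ i, W i ≤ f ⁻¹ᵁ U := fun i => hle₀ _
  have hcov : f ⁻¹ᵁ U ≤ ⨆ i, W i := hsup₀.trans (iSup_le fun a => le_iSup_of_le (e.symm a) (by simp [W]))
  let A := Γ(S, U)
  let B : Fin (Fintype.card κ) → Type u := fun i => Γ(X, W i)
  let M : Fin (Fintype.card κ) → Type u := fun i => ΓR (onSpec F (hW i))
  letI : ∀ i, CommRing (B i) := fun i => inferInstanceAs (CommRing Γ(X, W i))
  letI : ∀ i, AddCommGroup (M i) := fun i => inferInstanceAs (AddCommGroup (ΓR (onSpec F (hW i))))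
  letI : ∀ i, Algebra A (B i) := fun i => (f.appLE U (W i) (eW i)).hom.toAlgebra
  letI : ∀ i, Module (B i) (M i) := fun i => inferInstanceAs (Module Γ(X, W i) (ΓR (onSpec F (hW i))))
  letI : ∀ i, Module A (M i) := fun i => Module.compHom (ΓR (onSpec F (hW i))) (f.appLE U (W i) (eW i)).hom
  haveI : ∀ i, IsScalarTower A (B i) (M i) := fun i => IsScalarTower.of_algebraMap_smul fun _ _ => rfl
  haveI : ∀ i, Algebra.FinitePresentation A (B i) := fun i =>
    HasRingHomProperty.appLE @LocallyOfFinitePresentation f inferInstance ⟨U, hU⟩ ⟨W i, hW i⟩ (eW i)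
  haveI : ∀ i, Module.FinitePresentation (B i) (M i) := fun i => by
    haveI := finitePresentation_sections (M := F) hF (hW i)
    exact Module.FinitePresentation.of_equiv (onSpecΓ F (hW i)).symm
  obtain ⟨J₀, hJ₀, hnil, hchain⟩ := exists_chain (A := A) B M
  have hKtop : K.ideal ⟨U, hU⟩ = ⊤ := Groth.Agent.AdmBlowUp.ideal_eq_top_of_disjoint K ⟨U, hU⟩
    (by rw [hKU]; exact disjoint_compl_right)
  have hR : ∀ E : S.IdealSheafData, (P ⊔ E * K).ideal ⟨U, hU⟩ = P.ideal ⟨U, hU⟩ ⊔ E.ideal ⟨U, hU⟩ := fun E => by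
    simp only [Scheme.IdealSheafData.ideal_sup, Pi.sup_apply, Scheme.IdealSheafData.ideal_mul, Pi.mul_apply, hKtop,
      Ideal.mul_top]
  have hRs : ∀ E : S.IdealSheafData, ∀ s, s ∈ ((P ⊔ E * K).support : Set S) ↔
      s ∈ (P.support : Set S) ∧ (s ∈ (E.support : Set S) ∨ s ∉ U) := fun E s => by
    simp only [Scheme.IdealSheafData.support_sup, Scheme.IdealSheafData.support_mul, Closeds.coe_inf, Closeds.coe_sup,
      hKU, Set.mem_inter_iff, Set.mem_union, Set.mem_compl_iff, SetLike.mem_coe]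
  have hRft : ∀ E, BlowUp.IsFiniteTypeIdeal E → BlowUp.IsFiniteTypeIdeal (P ⊔ E * K) := fun E hE V => by
    simp only [Scheme.IdealSheafData.ideal_sup, Pi.sup_apply, Scheme.IdealSheafData.ideal_mul, Pi.mul_apply]
    exact Submodule.FG.sup (hP V) (Submodule.FG.mul (hE V) (hK V))
  have key : ∀ J, Relation.ReflTransGen (Step M) J₀ J → ∃ E : S.IdealSheafData, BlowUp.IsFiniteTypeIdeal E ∧
      E.ideal ⟨U, hU⟩ = J ∧ Relation.ReflTransGen (SStep f F) P (P ⊔ E * K) := by
    intro J hJ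
    induction hJ with
    | refl =>
      obtain ⟨E, hE, hEU⟩ := exists_ft_extension hU J₀ hJ₀
      refine ⟨E, hE, hEU, Relation.ReflTransGen.single
        (sstep_of_empty f F le_sup_left (hRft E hE) fun s hs => (hRs E s).mpr ⟨hs, ?_⟩)⟩
      by_cases hsU : s ∈ U
      · refine Or.inl ?_
        rw [SetLike.mem_coe, Scheme.IdealSheafData.mem_support_iff_of_mem (U := ⟨U, hU⟩) hsU, hEU,
          Scheme.mem_zeroLocus_iff]
        intro a ha hsa
        rw [S.mem_basicOpen a s hsU] at hsa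
        exact ((mem_nilradical.mp (hnil ha)).map (S.presheaf.germ U s hsU).hom).not_isUnit hsa
      · exact Or.inr hsU
    | tail hab hbc ih =>
      rename_i J' J''
      obtain ⟨E, hE, hEU, hc⟩ := ih
      obtain ⟨E₁, hE₁, hE₁U⟩ := exists_ft_extension hU J'' hbc.2.1
      have hE'U : (E ⊔ E₁).ideal ⟨U, hU⟩ = J'' := by
        rw [Scheme.IdealSheafData.ideal_sup, Pi.sup_apply, hEU, hE₁U, sup_eq_right.mpr hbc.1]
      have hE' : BlowUp.IsFiniteTypeIdeal (E ⊔ E₁) := fun V => by
        rw [Scheme.IdealSheafData.ideal_sup, Pi.sup_apply]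
        exact Submodule.FG.sup (hE V) (hE₁ V)
      refine ⟨E ⊔ E₁, hE', hE'U, hc.tail (sstep_of_chart f F hU W hW eW hcov ?_ (hRft _ hE') ?_ ?_)⟩
      · refine sup_le_sup_left (fun V => ?_) P
        simp only [Scheme.IdealSheafData.ideal_mul, Pi.mul_apply, Scheme.IdealSheafData.ideal_sup, Pi.sup_apply]
        exact Ideal.mul_mono_left le_sup_left
      · intro s hs hs'
        by_contra hsU
        exact hs' ((hRs _ s).mpr ⟨((hRs E s).mp hs).1, Or.inr hsU⟩)
      · intro A' _ _ h0 h1 i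
        rw [hR, Ideal.map_sup, sup_eq_bot_iff, hEU] at h0
        rw [hR, Ideal.map_sup, h0.1, bot_sup_eq, hE'U] at h1
        exact hbc.2.2 A' h0.2 h1 i
  obtain ⟨E, hE, hEU, hc⟩ := key ⊤ hchain
  refine hc.tail (sstep_of_empty f F (sup_le_sup_left (fun V => ?_) P) (fun V => ?_) fun s hs => ?_)
  · simp only [Scheme.IdealSheafData.ideal_mul, Pi.mul_apply]
    exact Ideal.mul_le_right
  · rw [Scheme.IdealSheafData.ideal_sup, Pi.sup_apply]
    exact Submodule.FG.sup (hP V) (hK V)
  · obtain ⟨hsP, hsE⟩ := (hRs E s).mp hs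
    have hsU : s ∉ U := by
      rcases hsE with hsE | hsU
      · intro hsU
        rw [SetLike.mem_coe, Scheme.IdealSheafData.mem_support_iff_of_mem (U := ⟨U, hU⟩) hsU, hEU,
          Scheme.mem_zeroLocus_iff] at hsE
        exact hsE 1 trivial (by rw [Scheme.basicOpen_of_isUnit _ isUnit_one]; exact hsU)
      · exact hsU
    simp only [Scheme.IdealSheafData.support_sup, Closeds.coe_inf, hKU]
    exact ⟨hsP, hsU⟩

/-- **Flattening stratification.** -/
theorem exists_chain_scheme [CompactSpace S] [QuasiSeparatedSpace S] (f : X ⟶ S) [LocallyOfFinitePresentation f]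
    [QuasiCompact f] (F : X.Modules) [F.IsQuasicoherent] (hF : CohB1.IsFP F) :
    Relation.ReflTransGen (SStep f F) ⊥ ⊤ := by
  classical
  obtain ⟨κ, hκ, U, hU, -, hsup⟩ := exists_finite_affine_cover (X := S) (U := ⊤) CompactSpace.isCompact_univ
  choose K hK hKU using fun a => Groth.Agent.AdmBlowUp.exists_ft_ideal (U a) (hU a).isCompact
  have h : ∀ T : Finset κ, BlowUp.IsFiniteTypeIdeal (T.sup K) ∧ Relation.ReflTransGen (SStep f F) ⊥ (T.sup K) := by
    intro T
    induction T using Finset.induction with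
    | empty => exact ⟨fun V => Submodule.fg_bot, Relation.ReflTransGen.refl⟩
    | insert a T _ ih =>
      rw [Finset.sup_insert, sup_comm]
      refine ⟨fun V => ?_, ih.2.trans (exists_chain_affine f F hF (hU a) _ _ ih.1 (hK a) (hKU a))⟩
      rw [Scheme.IdealSheafData.ideal_sup, Pi.sup_apply]
      exact Submodule.FG.sup (ih.1 V) (hK a V)
  have htop : Finset.univ.sup K = ⊤ := by
    rw [← Scheme.IdealSheafData.support_eq_bot_iff, eq_bot_iff]
    intro s hs
    obtain ⟨a, ha⟩ := Opens.mem_iSup.mp (hsup (Opens.mem_top s))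
    have := Scheme.IdealSheafData.support_antitone (Finset.le_sup (f := K) (Finset.mem_univ a)) hs
    exact absurd ha ((Set.ext_iff.mp (hKU a) s).mp this)
  exact htop ▸ (h Finset.univ).2

/-- Chains as monotone families. -/
theorem exists_family (f : X ⟶ S) (F : X.Modules) {P : S.IdealSheafData} (hP : BlowUp.IsFiniteTypeIdeal P)
    {Q : S.IdealSheafData} (h : Relation.ReflTransGen (SStep f F) P Q) :
    ∃ (t : ℕ) (I : Fin (t + 1) → S.IdealSheafData), Monotone I ∧ I (Fin.last t) = Q ∧ I 0 = P ∧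
      (∀ i, BlowUp.IsFiniteTypeIdeal (I i)) ∧ ∀ i : Fin t, SStep f F (I i.castSucc) (I i.succ) := by
  induction h with
  | refl => exact ⟨0, fun _ => P, monotone_const, rfl, rfl, fun _ => hP, fun i => i.elim0⟩
  | tail hab hbc ih =>
    rename_i Q' Q''
    obtain ⟨t, I, hmono, hlast, h0, hft, hstep⟩ := ih
    have hs : ∀ i : Fin (t + 1), SStep f F (Fin.snoc (α := fun _ => S.IdealSheafData) I Q'' i.castSucc)
        (Fin.snoc (α := fun _ => S.IdealSheafData) I Q'' i.succ) := by
      intro i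
      rcases Fin.eq_castSucc_or_eq_last i with ⟨j, rfl⟩ | rfl
      · rw [Fin.snoc_castSucc, Fin.succ_castSucc, Fin.snoc_castSucc]
        exact hstep j
      · rw [Fin.snoc_castSucc, Fin.succ_last, Fin.snoc_last, hlast]
        exact hbc
    refine ⟨t + 1, Fin.snoc I Q'', Fin.monotone_iff_le_succ.mpr fun i => (hs i).1, Fin.snoc_last _ _, ?_, ?_, hs⟩
    · rw [← Fin.castSucc_zero, Fin.snoc_castSucc, h0]
    · intro i
      rcases Fin.eq_castSucc_or_eq_last i with ⟨j, rfl⟩ | rfl
      · rw [Fin.snoc_castSucc]; exact hft j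
      · rw [Fin.snoc_last]; exact hbc.2.1

end Groth.FlatDescent.Strat
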